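import Mathlib
import Cfsg.Agent.H622.Over
import Cfsg.Agent.H424.CentBound
import Cfsg.Agent.H686.CharKit

/-!
# Characters over a linear character of a central subgroup: column orthogonality (S4816, helper382)

* `sum_over` : `∑_{χ over c} χ(g) conj χ(h)`;
* `sum_normSq_over` : `∑_{χ over c} |χ(g)|² = |C_G(g)| / |N|`, if `g n ~ g` only for `n = 1`;
* `card_over_le` : if all characters over `c` have degree prime to `p`, their number is at most
  `|C_G(x)| / |N|` for every `p`-element `x`;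
* `three_dvd_card_over` : for `p = 3` their number is divisible by 3.
-/

set_option autoImplicit false

namespace Cfsg.Agent.H382.RIM

open Cfsg Cfsg.Agent.Characters.Core Cfsg.Agent.H622.Over
open scoped ComplexConjugate

universe u

variable {G : Type u} [Group G]

theorem sum_hom_mul_conj {N : Subgroup G} [Finite G] [Fintype N] (c d : N →* ℂˣ) [Decidable (d = c)] :
    ∑ n : N, (d n : ℂ) * conj (c n : ℂ) = if d = c then (Nat.card N : ℂ) else 0 := by
  split_ifs with h
  · subst h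
    rw [Finset.sum_congr rfl fun n _ => hom_mul_conj d n]
    simp [Nat.card_eq_fintype_card]
  · obtain ⟨m, hm⟩ : ∃ m : N, d m ≠ c m := by
      by_contra hcon
      push Not at hcon
      exact h (MonoidHom.ext hcon)
    have h1 : ∑ n : N, (d n : ℂ) * conj (c n : ℂ) =
        ((d m : ℂ) * conj (c m : ℂ)) * ∑ n : N, (d n : ℂ) * conj (c n : ℂ) := by
      refine (Equiv.sum_comp (Equiv.mulLeft m) (fun n : N => (d n : ℂ) * conj (c n : ℂ))).symm.trans ?_
      rw [Finset.mul_sum]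
      refine Finset.sum_congr rfl fun n _ => ?_
      simp only [Equiv.coe_mulLeft, map_mul, Units.val_mul]
      ring
    have h2 : (d m : ℂ) * conj (c m : ℂ) ≠ 1 := by
      intro h3
      apply hm
      rw [conj_hom, map_inv, ← Units.val_mul] at h3
      exact mul_inv_eq_one.1 (Units.ext h3)
    by_contra h0
    apply h2
    have h3 : (1 - (d m : ℂ) * conj (c m : ℂ)) * ∑ n : N, (d n : ℂ) * conj (c n : ℂ) = 0 := by
      rw [sub_mul, one_mul, ← h1, sub_self]
    rcases mul_eq_zero.1 h3 with h4 | h4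
    · exact (sub_eq_zero.1 h4).symm
    · exact absurd h4 h0

/-- projection to the characters over `c` -/
theorem ite_lies [Finite G] {N : Subgroup G} [Fintype N] (hN : N ≤ Subgroup.center G) (c : N →* ℂˣ)
    (χ : IrrCharacter G) (g : G) [Decidable (Lies N c (χ : G → ℂ))] :
    (if Lies N c (χ : G → ℂ) then (χ : G → ℂ) g else 0) =
      (Nat.card N : ℂ)⁻¹ * ∑ n : N, (χ : G → ℂ) (g * n) * conj (c n : ℂ) := by
  classical
  have hN0 : (Nat.card N : ℂ) ≠ 0 := by exact_mod_cast Nat.card_pos.ne'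
  obtain ⟨d, hd⟩ := exists_hom hN χ.2
  have h1 : ∑ n : N, (χ : G → ℂ) (g * n) * conj (c n : ℂ) =
      (χ : G → ℂ) g * ∑ n : N, (d n : ℂ) * conj (c n : ℂ) := by
    rw [Finset.mul_sum]
    refine Finset.sum_congr rfl fun n _ => ?_
    rw [hd g n]; ring
  rw [h1, sum_hom_mul_conj]
  by_cases h : d = c
  · subst h
    rw [if_pos hd, if_pos rfl]
    field_simp
  · rw [if_neg h, mul_zero, mul_zero, if_neg]
    intro hc
    apply h
    refine MonoidHom.ext fun n => Units.ext ?_
    have h2 := hd 1 n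
    rw [hc 1 n] at h2
    exact (mul_left_cancel₀ (isIrr_apply_one_ne_zero χ.2) h2).symm

open Classical in
/-- the irreducible characters over `c` -/
noncomputable def ov [Fintype (IrrCharacter G)] (N : Subgroup G) (c : N →* ℂˣ) : Finset (IrrCharacter G) :=
  Finset.univ.filter fun χ : IrrCharacter G => Lies N c (χ : G → ℂ)

theorem mem_ov [Fintype (IrrCharacter G)] {N : Subgroup G} {c : N →* ℂˣ} {χ : IrrCharacter G} :
    χ ∈ ov N c ↔ Lies N c (χ : G → ℂ) := by
  classical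
  unfold ov
  rw [Finset.mem_filter]
  exact ⟨fun h => h.2, fun h => ⟨Finset.mem_univ _, h⟩⟩

theorem card_ov [Fintype (IrrCharacter G)] (N : Subgroup G) (c : N →* ℂˣ) :
    Nat.card {χ : IrrCharacter G // Lies N c (χ : G → ℂ)} = (ov N c).card := by
  classical
  rw [Nat.card_eq_fintype_card, Fintype.card_subtype]
  unfold ov
  congr

/-- column orthogonality over `c` -/
theorem sum_over [Finite G] {N : Subgroup G} [Fintype N] (hN : N ≤ Subgroup.center G) (c : N →* ℂˣ)
    [Fintype (IrrCharacter G)]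
    [∀ a b : G, Decidable (IsConj a b)] (g h : G) :
    ∑ χ ∈ ov N c, (χ : G → ℂ) g * conj ((χ : G → ℂ) h) =
      (Nat.card N : ℂ)⁻¹ * ∑ n : N, conj (c n : ℂ) *
        (if IsConj (g * n) h then (Nat.card (Subgroup.centralizer ({h} : Set G)) : ℂ) else 0) := by
  classical
  unfold ov
  rw [Finset.sum_filter]
  have h1 : ∀ χ : IrrCharacter G, (if Lies N c (χ : G → ℂ) then
      (χ : G → ℂ) g * conj ((χ : G → ℂ) h) else 0) =
      (Nat.card N : ℂ)⁻¹ * ∑ n : N, conj (c n : ℂ) * ((χ : G → ℂ) (g * n) * conj ((χ : G → ℂ) h)) := by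
    intro χ
    have h2 : (if Lies N c (χ : G → ℂ) then (χ : G → ℂ) g * conj ((χ : G → ℂ) h) else 0) =
        (if Lies N c (χ : G → ℂ) then (χ : G → ℂ) g else 0) * conj ((χ : G → ℂ) h) := by
      split_ifs <;> simp
    rw [h2, ite_lies hN c χ g, mul_assoc, Finset.sum_mul]
    congr 1
    exact Finset.sum_congr rfl fun n _ => by ring
  rw [Finset.sum_congr rfl fun χ _ => h1 χ, ← Finset.mul_sum, Finset.sum_comm]
  congr 1
  refine Finset.sum_congr rfl fun n _ => ?_
  rw [← Finset.mul_sum, Cfsg.Agent.H686.CharKit.col_orth]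

/-- `∑_{χ over c} |χ(g)|² = |C_G(g)| / |N|` -/
theorem sum_normSq_over [Finite G] {N : Subgroup G} (hN : N ≤ Subgroup.center G) (c : N →* ℂˣ)
    [Fintype (IrrCharacter G)]
    (g : G) (hg : ∀ n : N, IsConj (g * n) g → n = 1) :
    (Nat.card N : ℝ) * ∑ χ ∈ ov N c, ‖(χ : G → ℂ) g‖ ^ 2 =
      (Nat.card (Subgroup.centralizer ({g} : Set G)) : ℝ) := by
  classical
  have := Fintype.ofFinite N
  have hN0 : (Nat.card N : ℂ) ≠ 0 := by exact_mod_cast Nat.card_pos.ne'
  have h1 := sum_over hN c g g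
  rw [Finset.sum_eq_single (1 : N)] at h1
  · have e1 : IsConj (g * ((1 : N) : G)) g := by rw [Subgroup.coe_one, mul_one]
    rw [if_pos e1, map_one, Units.val_one, map_one, one_mul] at h1
    have h2 : (((Nat.card N : ℝ) * ∑ χ ∈ ov N c, ‖(χ : G → ℂ) g‖ ^ 2 : ℝ) : ℂ) =
        ((Nat.card (Subgroup.centralizer ({g} : Set G)) : ℝ) : ℂ) := by
      push_cast
      have h3 : ∑ χ ∈ ov N c, ((‖(χ : G → ℂ) g‖ : ℂ)) ^ 2 =
          (Nat.card N : ℂ)⁻¹ * (Nat.card (Subgroup.centralizer ({g} : Set G)) : ℂ) := by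
        rw [← h1]
        refine Finset.sum_congr rfl fun χ _ => ?_
        rw [Complex.mul_conj, Complex.normSq_eq_norm_sq]
        push_cast
        rfl
      rw [h3, ← mul_assoc, mul_inv_cancel₀ hN0, one_mul]
    exact_mod_cast h2
  · intro n _ hn
    rw [if_neg fun h => hn (hg n h), mul_zero]
  · intro h
    exact absurd (Finset.mem_univ _) h

/-- elements of order prime to `|N|` -/
theorem eq_one_of_isConj {N : Subgroup G} [Finite N] (hN : N ≤ Subgroup.center G) {g : G} {k : ℕ}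
    (hg : g ^ k = 1) (hk : k.Coprime (Nat.card N)) {n : N} (h : IsConj (g * n) g) : n = 1 := by
  obtain ⟨x, hx⟩ := isConj_iff.1 h
  have hc : ∀ y : G, y * n = n * y := fun y => Subgroup.mem_center_iff.1 (hN n.2) y
  have h1 : (g * n) ^ k = 1 := by
    have h2 : (x * (g * n) * x⁻¹) ^ k = 1 := by rw [hx, hg]
    rw [conj_pow] at h2
    exact conj_eq_one_iff.1 h2
  rw [Commute.mul_pow (hc g), hg, one_mul] at h1
  have h2 : n ^ k = 1 := Subtype.ext (by rw [Subgroup.coe_pow, h1, Subgroup.coe_one])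
  have h3 : n ^ Nat.card N = 1 := pow_card_eq_one'
  have h4 := Nat.dvd_gcd (orderOf_dvd_of_pow_eq_one h2) (orderOf_dvd_of_pow_eq_one h3)
  rw [hk] at h4
  exact orderOf_eq_one_iff.1 (Nat.dvd_one.1 h4)

/-- at most `|C_G(x)| / |N|` characters over `c`, if all of them have degree prime to `p` -/
theorem card_over_le [Finite G] {N : Subgroup G} (hN : N ≤ Subgroup.center G) (c : N →* ℂˣ)
    {p : ℕ} [Fact p.Prime] (hpN : ¬ p ∣ Nat.card N) {m : ℕ} {x : G} (hx : x ^ p ^ m = 1)
    (hS : ∀ χ : IrrCharacter G, Lies N c (χ : G → ℂ) → ¬ p ∣ charDegree (χ : G → ℂ)) :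
    Nat.card N * Nat.card {χ : IrrCharacter G // Lies N c (χ : G → ℂ)} ≤
      Nat.card (Subgroup.centralizer ({x} : Set G)) := by
  classical
  have := Fintype.ofFinite G
  have := finite_irr (G := G)
  have := Fintype.ofFinite (IrrCharacter G)
  have hp : p.Prime := Fact.out
  set n := Nat.card G with hn
  let X : Finset G := (Finset.range n).image (fun i => if i.Coprime n then x ^ i else x)
  have hn0 : 0 < n := Nat.card_pos
  have hmemX : ∀ g, g ∈ X ↔ ∃ k : ℕ, k.Coprime n ∧ g = x ^ k := by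
    intro g
    rw [Finset.mem_image]
    constructor
    · rintro ⟨i, -, rfl⟩
      by_cases h : i.Coprime n
      · rw [if_pos h]; exact ⟨i, h, rfl⟩
      · rw [if_neg h]; exact ⟨1, Nat.coprime_one_left n, (pow_one x).symm⟩
    · rintro ⟨k, hk, rfl⟩
      refine ⟨k % n, Finset.mem_range.2 (Nat.mod_lt _ hn0), ?_⟩
      have h1 : (k % n).Coprime n := by
        rw [Nat.Coprime, ← Nat.gcd_rec, Nat.gcd_comm]
        exact hk
      rw [if_pos h1]
      have h2 : x ^ n = 1 := pow_card_eq_one'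
      exact (pow_eq_pow_mod k h2).symm
  have hXpow : ∀ g ∈ X, ∀ m : ℕ, m.Coprime (Nat.card G) → g ^ m ∈ X := by
    intro g hg k hk
    obtain ⟨j, hj, rfl⟩ := (hmemX g).1 hg
    exact (hmemX _).2 ⟨j * k, Nat.Coprime.mul_left hj hk, (pow_mul x j k).symm⟩
  have hXne : X.Nonempty := ⟨x, (hmemX x).2 ⟨1, Nat.coprime_one_left n, (pow_one x).symm⟩⟩
  have hXp : ∀ g ∈ X, g ^ p ^ m = 1 := by
    intro g hg
    obtain ⟨j, hj, rfl⟩ := (hmemX g).1 hg
    rw [← pow_mul, mul_comm, pow_mul, hx, one_pow]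
  have hcent : ∀ g ∈ X, Nat.card (Subgroup.centralizer ({g} : Set G)) =
      Nat.card (Subgroup.centralizer ({x} : Set G)) := by
    intro g hg
    obtain ⟨j, hj, rfl⟩ := (hmemX g).1 hg
    rw [S0861.centralizer_pow_eq (n := n) pow_card_eq_one' hj]
  set S : Finset (IrrCharacter G) := ov N c with hSdef
  have hcardS : Nat.card {χ : IrrCharacter G // Lies N c (χ : G → ℂ)} = S.card := card_ov N c
  have h1 : ∀ χ ∈ S, (X.card : ℝ) ≤ ∑ g ∈ X, ‖(χ : G → ℂ) g‖ ^ 2 := by
    intro χ hχ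
    have h2 := OddOrderCharacters.PF13.SumBound.card_le_sum_sq (G := G) ({χ} : Finset (IrrCharacter G))
      (fun χ => (χ : G → ℂ)) (fun i _ => ⟨i, 0, isIrr_isCharacter i.2, isCharacter_zero, by simp⟩)
      X hXpow ?_
    · simpa using h2
    · intro g hg
      exact ⟨χ, Finset.mem_singleton_self χ, H424.CentBound.apply_ne_zero (p := p) (isIrr_isCharacter χ.2)
        (Blocks.Basic.irr_one_eq_charDegree χ.2) (hS χ (mem_ov.1 hχ)) (m := m) (hXp g hg)⟩
  have h2 : ∀ g ∈ X, (Nat.card N : ℝ) * ∑ χ ∈ S, ‖(χ : G → ℂ) g‖ ^ 2 =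
      Nat.card (Subgroup.centralizer ({x} : Set G)) := by
    intro g hg
    rw [← hcent g hg]
    refine sum_normSq_over hN c g fun n hn => ?_
    exact eq_one_of_isConj hN (hXp g hg) (Nat.Coprime.pow_left m ((Nat.Prime.coprime_iff_not_dvd hp).2 hpN)) hn
  have h3 : (Nat.card N : ℝ) * ((S.card : ℝ) * X.card) ≤
      X.card * Nat.card (Subgroup.centralizer ({x} : Set G)) := by
    calc (Nat.card N : ℝ) * ((S.card : ℝ) * X.card) = (Nat.card N : ℝ) * ∑ χ ∈ S, (X.card : ℝ) := by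
          rw [Finset.sum_const, nsmul_eq_mul]
      _ ≤ (Nat.card N : ℝ) * ∑ χ ∈ S, ∑ g ∈ X, ‖(χ : G → ℂ) g‖ ^ 2 :=
          mul_le_mul_of_nonneg_left (Finset.sum_le_sum h1) (by positivity)
      _ = ∑ g ∈ X, (Nat.card N : ℝ) * ∑ χ ∈ S, ‖(χ : G → ℂ) g‖ ^ 2 := by
          rw [Finset.sum_comm, Finset.mul_sum]
      _ = ∑ g ∈ X, (Nat.card (Subgroup.centralizer ({x} : Set G)) : ℝ) := Finset.sum_congr rfl h2
      _ = X.card * Nat.card (Subgroup.centralizer ({x} : Set G)) := by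
          rw [Finset.sum_const, nsmul_eq_mul]
  have hXpos : (0 : ℝ) < X.card := by exact_mod_cast hXne.card_pos
  have h4 : (Nat.card N : ℝ) * (S.card : ℝ) ≤ Nat.card (Subgroup.centralizer ({x} : Set G)) := by
    have e : (X.card : ℝ) * ((Nat.card N : ℝ) * (S.card : ℝ)) ≤
        X.card * Nat.card (Subgroup.centralizer ({x} : Set G)) := by
      calc (X.card : ℝ) * ((Nat.card N : ℝ) * (S.card : ℝ)) =
          (Nat.card N : ℝ) * ((S.card : ℝ) * X.card) := by ring
        _ ≤ _ := h3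
    exact le_of_mul_le_mul_left e hXpos
  rw [hcardS]
  exact_mod_cast h4

/-- `∑_{χ over c} χ(1)² = |G| / |N|` -/
theorem sum_deg_over [Finite G] {N : Subgroup G} (hN : N ≤ Subgroup.center G) (c : N →* ℂˣ)
    [Fintype (IrrCharacter G)] [DecidablePred fun χ : IrrCharacter G => Lies N c (χ : G → ℂ)] :
    Nat.card N * ∑ χ ∈ ov N c, charDegree (χ : G → ℂ) ^ 2 =
      Nat.card G := by
  have h := sum_normSq_over hN c (1 : G) (fun n hn => eq_one_of_isConj hN (one_pow 1)
    (Nat.coprime_one_left _) hn)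
  have e : Subgroup.centralizer ({(1 : G)} : Set G) = ⊤ := by
    rw [Subgroup.centralizer_eq_top_iff_subset]
    intro x hx
    rw [Set.mem_singleton_iff.1 hx]
    exact one_mem _
  rw [e, Nat.card_congr Subgroup.topEquiv.toEquiv] at h
  have h2 : ∑ χ ∈ ov N c, ‖(χ : G → ℂ) 1‖ ^ 2 =
      ((∑ χ ∈ ov N c, charDegree (χ : G → ℂ) ^ 2 : ℕ) : ℝ) := by
    push_cast
    refine Finset.sum_congr rfl fun χ _ => ?_
    rw [Blocks.Basic.irr_one_eq_charDegree χ.2, Complex.norm_natCast]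
  rw [h2] at h
  exact_mod_cast h

/-- `p = 3`: the number of characters over `c` is divisible by 3 -/
theorem three_dvd_card_over [Finite G] {N : Subgroup G} (hN : N ≤ Subgroup.center G) (c : N →* ℂˣ)
    (h3 : 3 ∣ Nat.card G) (hN3 : ¬ 3 ∣ Nat.card N)
    (hS : ∀ χ : IrrCharacter G, Lies N c (χ : G → ℂ) → ¬ 3 ∣ charDegree (χ : G → ℂ)) :
    3 ∣ Nat.card {χ : IrrCharacter G // Lies N c (χ : G → ℂ)} := by
  classical
  have := finite_irr (G := G)
  have := Fintype.ofFinite (IrrCharacter G)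
  have h := sum_deg_over hN c
  have h1 : 3 ∣ ∑ χ ∈ ov N c, charDegree (χ : G → ℂ) ^ 2 := by
    rw [← h] at h3
    exact (Nat.prime_three.dvd_mul.1 h3).resolve_left hN3
  rw [card_ov]
  have h2 : (∑ χ ∈ ov N c, charDegree (χ : G → ℂ) ^ 2) % 3 =
      (∑ χ ∈ ov N c, 1) % 3 := by
    rw [Finset.sum_nat_mod, Finset.sum_nat_mod (f := fun _ => 1)]
    congr 1
    refine Finset.sum_congr rfl fun χ hχ => ?_
    have h4 := hS χ (mem_ov.1 hχ)
    rw [Nat.dvd_iff_mod_eq_zero] at h4
    rw [Nat.pow_mod]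
    have : charDegree (χ : G → ℂ) % 3 < 3 := Nat.mod_lt _ (by norm_num)
    interval_cases (charDegree (χ : G → ℂ) % 3)
    · exact absurd rfl h4
    · rfl
    · rfl
  rw [Finset.card_eq_sum_ones]
  exact Nat.dvd_of_mod_eq_zero (by rw [← h2]; exact Nat.mod_eq_zero_of_dvd h1)

end Cfsg.Agent.H382.RIM
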