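import Mathlib
import Cfsg.Agent.H665.RIM.Defs
import Cfsg.Agent.H990.TC.Univ
import Cfsg.Agent.Characters.Core

/-!
# Rows of S4816 from a model of the double cover (helper382)

`nball_of_two` : `K` simple with multiplier of order 2, `σ : Γ → K` a perfect central extension with kernel `{1, z}`;
if some irreducible character `χ` of `Γ` with `χ z = -χ 1` has degree divisible by `p`, then `NBall p S` for `S ≃* K`.
-/

set_option autoImplicit false

namespace Cfsg.Agent.H382.RIM

open Cfsg Cfsg.Agent.H51.Mult Cfsg.Agent.H665.RIM Cfsg.Agent.Characters.Core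

universe u v w x

theorem center_eq_bot {K : Type v} [Group K] [IsSimpleGroup K] (h : commutator K = ⊤) :
    Subgroup.center K = ⊥ := by
  rcases IsSimpleGroup.eq_bot_or_eq_top_of_normal (Subgroup.center K) inferInstance with h1 | h1
  · exact h1
  · exfalso
    have h2 : commutator K = ⊥ := by
      rw [commutator_eq_bot_iff_center_eq_top]; exact h1
    rw [h] at h2
    exact top_ne_bot h2

theorem PCE.perfect {Γ : Type w} {K : Type v} [Group Γ] [Group K] {σ : Γ →* K} (hσ : PCE σ) : commutator K = ⊤ := by
  have h1 : (commutator Γ).map σ = commutator K := by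
    rw [commutator_def, commutator_def, Subgroup.map_commutator, Subgroup.map_top_of_surjective σ hσ.surj]
  rw [← h1, hσ.perf, Subgroup.map_top_of_surjective σ hσ.surj]

theorem nball_of_two {p : ℕ} {S : Type u} [Group S] {K : Type v} [Group K] (e : S ≃* K)
    {A : Type x} [CommGroup A] (hA : Cfsg.HasSchurMultiplier K A) (hcA : Nat.card A = 2)
    [IsSimpleGroup K] {Γ : Type w} [Group Γ] [Finite Γ] {σ : Γ →* K} (hσ : PCE σ)
    {z : Γ} (hz1 : z ≠ 1) (hker : ∀ g : Γ, σ g = 1 ↔ g = 1 ∨ g = z)
    {χ : Γ → ℂ} (hχ : IsIrrCharacter Γ χ) (hl : χ z = - χ 1) (hd : p ∣ charDegree χ) : NBall p S := by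
  have hK : Subgroup.center K = ⊥ := center_eq_bot (PCE.perfect hσ)
  have hcard : Nat.card σ.ker = 2 := by
    have h1 : (σ.ker : Set Γ) = {1, z} := by
      ext g
      rw [SetLike.mem_coe, MonoidHom.mem_ker, Set.mem_insert_iff, Set.mem_singleton_iff]
      exact hker g
    have h2 : Nat.card σ.ker = (σ.ker : Set Γ).ncard := rfl
    rw [h2, h1, Set.ncard_pair hz1.symm]
  intro m hm2 _ E _ _ π hs hc hperf hm l hl1
  have hπ : PCE (e.toMonoidHom.comp π) := by
    refine ⟨e.surjective.comp hs, ?_, hperf⟩
    intro g hg
    apply hc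
    rw [MonoidHom.mem_ker] at hg ⊢
    exact e.injective (by rw [map_one]; exact hg)
  have hkerπ : (e.toMonoidHom.comp π).ker = π.ker := by
    ext g
    rw [MonoidHom.mem_ker, MonoidHom.mem_ker]
    constructor
    · intro hg
      exact e.injective (by rw [map_one]; exact hg)
    · intro hg
      change e (π g) = 1
      rw [hg, map_one]
  have hd2 : Nat.card π.ker ∣ 2 := by
    rw [← hcA, ← hkerπ]
    exact Cfsg.Agent.H990.TC.card_ker_dvd hA hπ
  have hm' : Nat.card π.ker = 2 := by
    have h1 := Nat.le_of_dvd (by norm_num) hd2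
    omega
  obtain ⟨θ, hθ⟩ := Cfsg.Agent.H990.TC.exists_surj_of_card hA hσ (hcard.trans hcA.symm) hπ
  -- `θ` is bijective
  have hcE : Nat.card E = Nat.card Γ := by
    have hfinK : Finite K := Finite.of_surjective σ hσ.surj
    have h1 : Nat.card σ.ker * Nat.card K = Nat.card Γ := by
      rw [← Subgroup.card_mul_index σ.ker, Subgroup.index_ker, MonoidHom.range_eq_top.2 hσ.surj,
        Nat.card_congr Subgroup.topEquiv.toEquiv]
    have h2 : Nat.card (e.toMonoidHom.comp π).ker * Nat.card K = Nat.card E := by
      rw [← Subgroup.card_mul_index (e.toMonoidHom.comp π).ker, Subgroup.index_ker, MonoidHom.range_eq_top.2 hπ.surj,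
        Nat.card_congr Subgroup.topEquiv.toEquiv]
    rw [hkerπ, hm'] at h2
    rw [hcard] at h1
    rw [← h1, ← h2]
  have hbij : Function.Bijective θ :=
    (Nat.bijective_iff_surjective_and_card θ).2 ⟨hθ, hcE.symm⟩
  let f : Γ ≃* E := MulEquiv.ofBijective θ hbij
  refine ⟨χ ∘ f.symm.toMonoidHom, isIrr_comp f.symm.toMonoidHom f.symm.surjective hχ, ?_, ?_⟩
  · intro y
    change χ (f.symm y) = χ (f.symm 1) * _
    rw [map_one]
    by_cases hy : y = 1
    · subst hy
      rw [OneMemClass.coe_one, map_one, map_one, Units.val_one, mul_one]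
    · have h1 : f.symm (y : E) = z := by
        have h2 : f.symm (y : E) ∈ Subgroup.center Γ := by
          rw [Subgroup.mem_center_iff]
          intro g
          have h3 := Subgroup.mem_center_iff.1 (hc y.2) (f g)
          apply f.injective
          rw [map_mul, map_mul, MulEquiv.apply_symm_apply]
          exact h3
        have h4 : σ (f.symm (y : E)) = 1 := by
          have h5 : σ (f.symm (y : E)) ∈ Subgroup.center K := by
            rw [Subgroup.mem_center_iff]
            intro k
            obtain ⟨g, rfl⟩ := hσ.surj k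
            rw [← map_mul, ← map_mul, Subgroup.mem_center_iff.1 h2 g]
          rw [hK] at h5
          exact Subgroup.mem_bot.1 h5
        rcases (hker _).1 h4 with h5 | h5
        · exfalso
          apply hy
          apply Subtype.ext
          apply f.symm.injective
          rw [h5, OneMemClass.coe_one, map_one]
        · exact h5
      have h6 : (l y : ℂ) = -1 := by
        have h7 : y ^ 2 = 1 := by
          rw [← hm']
          exact pow_card_eq_one'
        have h8 : (l y : ℂ) ^ 2 = 1 := by
          rw [← Units.val_pow_eq_pow_val, ← map_pow, h7, map_one, Units.val_one]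
        have h8' : (l y : ℂ) * (l y : ℂ) = 1 := by rw [← sq]; exact h8
        rcases mul_self_eq_one_iff.1 h8' with h9 | h9
        · exfalso
          apply hy
          apply hl1
          rw [map_one]
          exact Units.ext h9
        · exact h9
      rw [h1, h6, hl]
      ring
  · have h1 : charDegree (χ ∘ f.symm.toMonoidHom) = charDegree χ := by
      unfold charDegree
      change ⌊(χ (f.symm 1)).re⌋₊ = _
      rw [map_one]
    rw [h1]
    exact hd

end Cfsg.Agent.H382.RIM
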