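import Mathlib
import Cfsg.Agent.Characters.Core
import Cfsg.Prelude.Def_Blocks
import Cfsg.Agent.H686.CharKit

/-!
# Irreducible signed permutation characters (helper382, S4816)

`exists_irr` : `Γ` acts on `Y`, `z ∈ Γ` central without fixed points, `z² = 1`; `Γ` transitive on `Y` and for
`y ≠ y₀, z y₀` some element fixes `y₀` and maps `y` to `z y`. Then the odd functions on `Y` afford an irreducible
character `χ` with `χ z = -χ 1` and `2 χ 1 = |Y|`.
-/

set_option autoImplicit false
set_option linter.unusedSectionVars false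

namespace Cfsg.Agent.H382.RIM.Signed

open Cfsg Cfsg.Agent.Characters.Core

universe u v

variable {Γ : Type u} [Group Γ] {Y : Type v} [MulAction Γ Y]

/-- the odd functions -/
def Vm (Y : Type v) [MulAction Γ Y] (z : Γ) : Submodule ℂ (Y → ℂ) where
  carrier := {f | ∀ y, f (z • y) = - f y}
  add_mem' := by
    intro a b ha hb y
    rw [Pi.add_apply, Pi.add_apply, ha y, hb y]; ring
  zero_mem' := fun y => by simp
  smul_mem' := by
    intro c a ha y
    rw [Pi.smul_apply, Pi.smul_apply, ha y, smul_neg]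

theorem mem_Vm {z : Γ} {f : Y → ℂ} : f ∈ Vm Y z ↔ ∀ y, f (z • y) = - f y := Iff.rfl

/-- the representation on the odd functions -/
def rep {z : Γ} (hz : ∀ g : Γ, z * g = g * z) : Representation ℂ Γ (Vm Y z) where
  toFun g :=
    { toFun := fun f => ⟨fun y => f.1 (g⁻¹ • y), fun y => by
        change f.1 (g⁻¹ • z • y) = - f.1 (g⁻¹ • y)
        rw [← mul_smul, ← hz, mul_smul, mem_Vm.1 f.2]⟩
      map_add' := fun _ _ => rfl
      map_smul' := fun _ _ => rfl }
  map_one' := by
    ext f y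
    change f.1 ((1 : Γ)⁻¹ • y) = f.1 y
    rw [inv_one, one_smul]
  map_mul' g h := by
    ext f y
    change f.1 ((g * h)⁻¹ • y) = f.1 (h⁻¹ • g⁻¹ • y)
    rw [mul_inv_rev, mul_smul]

theorem rep_apply {z : Γ} (hz : ∀ g : Γ, z * g = g * z) (g : Γ) (f : Vm Y z) (y : Y) :
    (rep (Y := Y) hz g f).1 y = f.1 (g⁻¹ • y) := rfl

section fin

variable [Fintype Y] [DecidableEq Y]

/-- the odd delta function -/
def dl (z : Γ) (y₀ : Y) (hz2 : z * z = 1) (hfp : ∀ y : Y, z • y ≠ y) : Vm Y z :=
  ⟨fun y => if y = y₀ then 1 else if y = z • y₀ then -1 else 0, by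
    intro y
    have h1 : z • z • y = y := by rw [← mul_smul, hz2, one_smul]
    by_cases ha : y = y₀
    · subst ha
      simp [hfp]
    · by_cases hb : y = z • y₀
      · have h2 : z • y = y₀ := by rw [hb, ← mul_smul, hz2, one_smul]
        simp only [h2, if_true, if_neg ha, if_pos hb, neg_neg]
      · have h2 : z • y ≠ y₀ := by
          intro h
          apply hb
          rw [← h, h1]
        have h3 : z • y ≠ z • y₀ := fun h => ha (MulAction.injective z h)
        simp only [if_neg h2, if_neg h3, if_neg ha, if_neg hb, neg_zero]⟩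

theorem dl_apply (z : Γ) (y₀ : Y) (hz2 : z * z = 1) (hfp : ∀ y : Y, z • y ≠ y) (y : Y) :
    (dl z y₀ hz2 hfp).1 y = if y = y₀ then 1 else if y = z • y₀ then -1 else 0 := rfl

theorem finrank_Vm [LinearOrder Y] {z : Γ} (hz2 : z * z = 1) (hfp : ∀ y : Y, z • y ≠ y) :
    2 * Module.finrank ℂ (Vm Y z) = Fintype.card Y := by
  classical
  have hzz : ∀ y : Y, z • z • y = y := fun y => by rw [← mul_smul, hz2, one_smul]
  let e : Vm Y z ≃ₗ[ℂ] ({y : Y // y < z • y} → ℂ) :=
    { toFun := fun f y => f.1 y.1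
      map_add' := fun _ _ => rfl
      map_smul' := fun _ _ => rfl
      invFun := fun φ => ⟨fun y => if h : y < z • y then φ ⟨y, h⟩ else if h' : z • y < y then
          - φ ⟨z • y, by rw [hzz]; exact h'⟩ else 0, by
        intro y
        dsimp only
        rcases lt_or_gt_of_ne (hfp y) with h | h
        · have h1 : ¬ y < z • y := not_lt.2 h.le
          have h2 : z • y < z • z • y := by rw [hzz]; exact h
          rw [dif_pos h2, dif_neg h1, dif_pos h, neg_neg]
        · have h1 : ¬ z • y < z • z • y := by rw [hzz]; exact not_lt.2 h.le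
          have h2 : z • z • y < z • y := by rw [hzz]; exact h
          rw [dif_neg h1, dif_pos h2, dif_pos h]
          congr 2
          exact Subtype.ext (hzz y)⟩
      left_inv := by
        intro f
        apply Subtype.ext
        funext y
        dsimp only
        rcases lt_or_gt_of_ne (hfp y) with h | h
        · rw [dif_neg (not_lt.2 h.le), dif_pos h, mem_Vm.1 f.2, neg_neg]
        · rw [dif_pos h]
      right_inv := by
        intro φ
        funext y
        dsimp only
        rw [dif_pos y.2] }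
  rw [LinearEquiv.finrank_eq e, Module.finrank_fintype_fun_eq_card]
  have h1 : Fintype.card {y : Y // y < z • y} = Fintype.card {y : Y // ¬ y < z • y} := by
    refine Fintype.card_congr ⟨fun y => ⟨z • y.1, ?_⟩, fun y => ⟨z • y.1, ?_⟩, ?_, ?_⟩
    · rw [hzz]; exact not_lt.2 y.2.le
    · rw [hzz]
      rcases lt_or_gt_of_ne (hfp y.1) with h | h
      · exact h
      · exact absurd h y.2
    · intro y; exact Subtype.ext (hzz _)
    · intro y; exact Subtype.ext (hzz _)
  have h2 := Fintype.card_subtype_compl (fun y : Y => y < z • y)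
  have h3 := Fintype.card_subtype_le (fun y : Y => y < z • y)
  omega

variable [Finite Γ]

theorem irreducible {z : Γ} (hz : ∀ g : Γ, z * g = g * z) (hz2 : z * z = 1) (hfp : ∀ y : Y, z • y ≠ y) (y₀ : Y)
    (htr : ∀ y : Y, ∃ g : Γ, g • y₀ = y)
    (hsg : ∀ y : Y, y ≠ y₀ → y ≠ z • y₀ → ∃ h : Γ, h • y₀ = y₀ ∧ h • y = z • y) :
    (rep (Y := Y) hz).IsIrreducible := by
  classical
  have := Fintype.ofFinite Γ
  have hzz : ∀ y : Y, z • z • y = y := fun y => by rw [← mul_smul, hz2, one_smul]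
  set ρ := rep (Y := Y) hz with hρ
  -- the average over the stabilizer of `y₀`
  set T : Subgroup Γ := MulAction.stabilizer Γ y₀ with hT
  have : Fintype T := Fintype.ofFinite T
  have hav : ∀ f : Vm Y z, ∑ t : T, ρ (t : Γ) f = ((Fintype.card T : ℂ) * f.1 y₀) • dl z y₀ hz2 hfp := by
    intro f
    have hinv : ∀ h : T, ρ (h : Γ) (∑ t : T, ρ (t : Γ) f) = ∑ t : T, ρ (t : Γ) f := by
      intro h
      rw [map_sum]
      refine Fintype.sum_equiv (Equiv.mulLeft h) _ _ fun t => ?_
      rw [Equiv.coe_mulLeft, Subgroup.coe_mul, map_mul]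
      rfl
    apply Subtype.ext
    funext y
    have hval : ∀ y : Y, (∑ t : T, ρ (t : Γ) f).1 y = ∑ t : T, f.1 ((t : Γ)⁻¹ • y) := by
      intro y
      rw [Submodule.coe_sum, Finset.sum_apply]
      exact Finset.sum_congr rfl fun t _ => rfl
    have h0 : (∑ t : T, ρ (t : Γ) f).1 y₀ = (Fintype.card T : ℂ) * f.1 y₀ := by
      rw [hval]
      have : ∀ t : T, f.1 ((t : Γ)⁻¹ • y₀) = f.1 y₀ := by
        intro t
        have ht : (t : Γ) • y₀ = y₀ := t.2
        rw [inv_smul_eq_iff.2 ht.symm]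
      rw [Finset.sum_congr rfl fun t _ => this t]
      simp
    by_cases ha : y = y₀
    · subst ha
      rw [h0, Submodule.coe_smul, Pi.smul_apply, dl_apply, if_pos rfl, smul_eq_mul, mul_one]
    · by_cases hb : y = z • y₀
      · have h1 : (∑ t : T, ρ (t : Γ) f).1 y = - (∑ t : T, ρ (t : Γ) f).1 y₀ := by
          rw [hb]; exact (∑ t : T, ρ (t : Γ) f).2 y₀
        rw [h1, h0, Submodule.coe_smul, Pi.smul_apply, dl_apply, if_neg ha, if_pos hb, smul_eq_mul, mul_neg, mul_one]
      · obtain ⟨h, hh0, hhy⟩ := hsg y ha hb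
        have h1 := congrArg (fun F : Vm Y z => F.1 (z • y)) (hinv ⟨h, hh0⟩)
        have h2 : (∑ t : T, ρ (t : Γ) f).1 (h⁻¹ • z • y) = (∑ t : T, ρ (t : Γ) f).1 (z • y) := h1
        rw [← hhy, inv_smul_smul, hhy, (∑ t : T, ρ (t : Γ) f).2 y] at h2
        have h3 : (∑ t : T, ρ (t : Γ) f).1 y = 0 := by
          have h4 : (2 : ℂ) * (∑ t : T, ρ (t : Γ) f).1 y = 0 := by
            linear_combination h2
          exact (mul_eq_zero.1 h4).resolve_left (by norm_num)
        rw [h3, Submodule.coe_smul, Pi.smul_apply, dl_apply, if_neg ha, if_neg hb, smul_zero]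
  have hdl : ∀ (g : Γ), (ρ g (dl z y₀ hz2 hfp)) = dl z (g • y₀) hz2 hfp := by
    intro g
    apply Subtype.ext
    funext y
    rw [rep_apply, dl_apply, dl_apply]
    have e1 : (g⁻¹ • y = y₀) = (y = g • y₀) := by rw [inv_smul_eq_iff]
    have e2 : (g⁻¹ • y = z • y₀) = (y = z • g • y₀) := by
      rw [inv_smul_eq_iff, ← mul_smul, ← mul_smul, hz]
    simp only [e1, e2]
  have hspan : ∀ f : Vm Y z, (2 : ℂ) • f = ∑ y : Y, (f.1 y) • dl z y hz2 hfp := by
    intro f
    apply Subtype.ext
    funext x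
    rw [Submodule.coe_smul, Pi.smul_apply, Submodule.coe_sum, Finset.sum_apply]
    have h1 : ∀ y : Y, ((f.1 y • dl z y hz2 hfp : Vm Y z) : Y → ℂ) x =
        (if y = x then f.1 y else 0) - (if y = z • x then f.1 y else 0) := by
      intro y
      rw [Submodule.coe_smul, Pi.smul_apply, dl_apply, smul_eq_mul]
      by_cases ha : x = y
      · subst ha
        rw [if_pos rfl, if_pos rfl, if_neg (fun h => hfp x h.symm)]; ring
      · by_cases hb : x = z • y
        · have hc : y = z • x := by rw [hb, hzz]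
          rw [if_neg ha, if_pos hb, if_neg (fun h => ha h.symm), if_pos hc]; ring
        · have hc : y ≠ z • x := fun h => hb (by rw [h, hzz])
          rw [if_neg ha, if_neg hb, if_neg (fun h => ha h.symm), if_neg hc]; ring
    rw [Finset.sum_congr rfl fun y _ => h1 y, Finset.sum_sub_distrib, Finset.sum_ite_eq' Finset.univ x,
      Finset.sum_ite_eq' Finset.univ (z • x), if_pos (Finset.mem_univ _), if_pos (Finset.mem_univ _), f.2 x,
      smul_eq_mul]
    ring
  have hT0 : (Fintype.card T : ℂ) ≠ 0 := by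
    have : 0 < Fintype.card T := Fintype.card_pos
    exact_mod_cast this.ne'
  have hd0 : dl z y₀ hz2 hfp ≠ 0 := by
    intro h
    have h1 := congrArg (fun F : Vm Y z => F.1 y₀) h
    have h2 : (dl z y₀ hz2 hfp).1 y₀ = 0 := h1
    rw [dl_apply, if_pos rfl] at h2
    exact one_ne_zero h2
  have hnt : Nontrivial (Subrepresentation ρ) := by
    refine ⟨⟨⊥, ⊤, fun h => hd0 ?_⟩⟩
    have h1 : dl z y₀ hz2 hfp ∈ (⊤ : Subrepresentation ρ) := trivial
    rw [← h] at h1
    exact h1
  refine ⟨fun W => ?_⟩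
  by_cases hW : ∀ w ∈ W.toSubmodule, w = 0
  · left
    apply Subrepresentation.toSubmodule_injective
    refine (Submodule.eq_bot_iff _).2 hW
  · right
    push Not at hW
    obtain ⟨w, hw, hw0⟩ := hW
    have hg : ∀ (g : Γ) {v : Vm Y z}, v ∈ W.toSubmodule → ρ g v ∈ W.toSubmodule := fun g v hv =>
      W.apply_mem_toSubmodule g hv
    obtain ⟨y, hy⟩ : ∃ y, w.1 y ≠ 0 := by
      by_contra hcon
      push Not at hcon
      exact hw0 (Subtype.ext (funext hcon))
    obtain ⟨g, rfl⟩ := htr y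
    have hw' := hg g⁻¹ hw
    have hwy : (ρ g⁻¹ w).1 y₀ ≠ 0 := by
      rw [rep_apply, inv_inv]; exact hy
    have h1 : dl z y₀ hz2 hfp ∈ W.toSubmodule := by
      have h2 : ∑ t : T, ρ (t : Γ) (ρ g⁻¹ w) ∈ W.toSubmodule := Submodule.sum_mem _ fun t _ => hg t hw'
      rw [hav] at h2
      have h3 := W.toSubmodule.smul_mem ((Fintype.card T : ℂ) * (ρ g⁻¹ w).1 y₀)⁻¹ h2
      rwa [smul_smul, inv_mul_cancel₀ (mul_ne_zero hT0 hwy), one_smul] at h3
    have h2 : ∀ y : Y, dl z y hz2 hfp ∈ W.toSubmodule := by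
      intro y
      obtain ⟨g, rfl⟩ := htr y
      rw [← hdl]
      exact hg g h1
    apply Subrepresentation.toSubmodule_injective
    refine (Submodule.eq_top_iff'.2 fun f => ?_)
    have h3 : (2 : ℂ) • f ∈ W.toSubmodule := by
      rw [hspan]
      exact Submodule.sum_mem _ fun y _ => W.toSubmodule.smul_mem _ (h2 y)
    have h4 := W.toSubmodule.smul_mem (2 : ℂ)⁻¹ h3
    rwa [smul_smul, inv_mul_cancel₀ (by norm_num), one_smul] at h4

/-- **the signed permutation character** -/
theorem exists_irr [LinearOrder Y] {z : Γ} (hz : ∀ g : Γ, z * g = g * z) (hz2 : z * z = 1)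
    (hfp : ∀ y : Y, z • y ≠ y) (y₀ : Y) (htr : ∀ y : Y, ∃ g : Γ, g • y₀ = y)
    (hsg : ∀ y : Y, y ≠ y₀ → y ≠ z • y₀ → ∃ h : Γ, h • y₀ = y₀ ∧ h • y = z • y) :
    ∃ χ : Γ → ℂ, IsIrrCharacter Γ χ ∧ χ z = - χ 1 ∧ 2 * charDegree χ = Fintype.card Y := by
  have hirr := irreducible hz hz2 hfp y₀ htr hsg
  have hχ := isIrrCharacter_of_rep _ hirr
  refine ⟨(rep (Y := Y) hz).character, hχ, ?_, ?_⟩
  · have h1 : rep (Y := Y) hz z = -1 := by
      ext f y
      rw [rep_apply]
      have h2 : z⁻¹ = z := by rw [inv_eq_iff_mul_eq_one, hz2]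
      rw [h2, f.2 y]
      rfl
    change LinearMap.trace ℂ _ (rep (Y := Y) hz z) = - LinearMap.trace ℂ _ (rep (Y := Y) hz 1)
    rw [h1, map_one]
    exact map_neg (LinearMap.trace ℂ (Vm Y z)) 1
  · have h1 : (rep (Y := Y) hz).character 1 = (Module.finrank ℂ (Vm Y z) : ℂ) := by
      change LinearMap.trace ℂ _ (rep (Y := Y) hz 1) = _
      rw [map_one, LinearMap.trace_one]
    have h2 : charDegree (rep (Y := Y) hz).character = Module.finrank ℂ (Vm Y z) := by
      have h3 : (charDegree (rep (Y := Y) hz).character : ℂ) = (rep (Y := Y) hz).character 1 :=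
        Cfsg.Agent.H686.CharKit.charDegree_irr ⟨_, hχ⟩
      rw [h1] at h3
      exact_mod_cast h3
    rw [h2]
    convert finrank_Vm hz2 hfp

end fin

end Cfsg.Agent.H382.RIM.Signed
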