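import Cfsg.Agent.H382.RIM.Frame
import Cfsg.Agent.H382.RIM.Signed
import Cfsg.Agent.H109.QO.MTwelve
import Cfsg.Agent.Schreier.MTwelve

/-!
# `M₁₂` is not bad for `p = 3` (helper382, S4816)

The signed permutation character of degree 12 of `2.M₁₂` is irreducible.
-/

set_option autoImplicit false

namespace Cfsg.Agent.H382.RIM.MTwelve

open Cfsg Cfsg.Agent.H932.Mt Cfsg.Agent.H24.M12 Cfsg.Agent.H665.RIM

universe u

/-- `Γ` on 24 signed points -/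
def toP : Γ →* Equiv.Perm (Fin 24) := (MonoidHom.fst _ _).comp (Subgroup.subtype Gam)

def act : MulAction Γ (Fin 24) := MulAction.compHom (Fin 24) toP

/-- words mapping 0 to y -/
def wT : List (List ℕ) := [[], [2, 1, 0, 0, 0], [2, 2], [2, 1, 0, 1, 0], [0, 0, 0, 1, 2], [0, 1], [0], [1, 0, 0, 0], [1, 0, 0, 1], [0, 1, 0, 0, 1], [0, 1, 0], [1, 2], [0, 0], [2, 1, 0], [1, 0], [0, 0, 0], [0, 0, 1], [2, 2, 1, 0, 1, 0], [1, 0, 1, 0], [2], [1], [0, 0, 1, 2], [0, 1, 2], [2, 1]]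

/-- words fixing 0 and mapping y to -y -/
def wS : List (List ℕ) := [[], [], [2, 1, 2, 1, 2, 2, 1, 0, 1, 0, 0], [2, 1, 2, 1, 2, 2, 1, 0, 1, 0, 0], [1, 0, 1, 0, 0, 0, 1, 2, 1, 0], [1, 0, 1, 0, 0, 0, 1, 2, 1, 0], [0, 1, 0, 1, 0, 0, 1, 2, 2, 1], [0, 1, 0, 1, 0, 0, 1, 2, 2, 1], [0, 1, 0, 0, 0, 1, 2, 2, 2, 1], [0, 1, 0, 0, 0, 1, 2, 2, 2, 1], [0, 1, 2, 2, 1, 0, 1, 0, 1, 0], [0, 1, 2, 2, 1, 0, 1, 0, 1, 0], [0, 1, 0, 0, 1, 2, 1, 2, 2, 1, 0], [0, 1, 0, 0, 1, 2, 1, 2, 2, 1, 0], [0, 1, 2, 2, 1, 2, 1, 0, 0, 0], [0, 1, 2, 2, 1, 2, 1, 0, 0, 0], [2, 1, 2, 1, 2, 2, 1, 0, 0, 0], [2, 1, 2, 1, 2, 2, 1, 0, 0, 0], [1, 0, 0, 1, 2, 2, 2, 2, 1, 0], [1, 0, 0, 1, 2, 2, 2, 2, 1, 0], [1, 0, 0, 0, 1, 2, 1, 0, 0], [1, 0, 0, 0, 1, 2, 1, 0, 0], [0, 1, 0, 1, 2, 2, 1, 0], [0, 1, 0, 1, 2, 2, 1, 0]]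

theorem chkT : ∀ y : Fin 24, aw (wT.getD y.val []) 0 = y.val := by decide +kernel

theorem chkS : ∀ y : Fin 24, 2 ≤ y.val →
    aw (wS.getD y.val []) 0 = 0 ∧ aw (wS.getD y.val []) y.val = (ng y).val := by decide +kernel

theorem exists_twelve : ∃ χ : Γ → ℂ, IsIrrCharacter Γ χ ∧ χ neg = - χ 1 ∧ charDegree χ = 12 := by
  letI := act
  have hsm : ∀ (g : Γ) (y : Fin 24), g • y = g.1.1 y := fun _ _ => rfl
  have hfin : Finite Γ := inferInstance
  obtain ⟨χ, h1, h2, h3⟩ := Signed.exists_irr (Γ := Γ) (Y := Fin 24) (z := neg) neg_comm neg_mul_neg'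
    (by
      intro y
      rw [hsm, neg_apply]
      revert y
      decide +kernel) (0 : Fin 24)
    (by
      intro y
      refine ⟨el (wT.getD y.val []), ?_⟩
      rw [hsm]
      apply Fin.ext
      rw [el_val]
      exact chkT y)
    (by
      intro y h0 h1
      rw [hsm, neg_apply] at h1
      have hy : 2 ≤ y.val := by
        by_contra hcon
        have hy' : y.val = 0 ∨ y.val = 1 := by omega
        rcases hy' with h | h
        · exact h0 (Fin.ext h)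
        · apply h1
          rw [Fin.ext (show y.val = (1 : Fin 24).val from h)]
          rfl
      obtain ⟨e1, e2⟩ := chkS y hy
      refine ⟨el (wS.getD y.val []), ?_, ?_⟩
      · rw [hsm]
        apply Fin.ext
        rw [el_val]
        exact e1
      · rw [hsm, hsm, neg_apply]
        apply Fin.ext
        rw [el_val]
        exact e2)
  refine ⟨χ, h1, h2, ?_⟩
  rw [Fintype.card_fin] at h3
  omega

/-- **`M₁₂`, `p = 3`** -/
theorem row {S : Type u} [Group S] (h : Spor.IsoM12 S) : NBall 3 S := by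
  obtain ⟨e⟩ := h
  obtain ⟨χ, h1, h2, h3⟩ := exists_twelve
  have hs : IsSimpleGroup Spor.M12 := Cfsg.Agent.Schreier.MTwelve.isSimpleGroup
  refine nball_of_two e S2035.result ?_ H109.QO.MTwelve.pce_sig neg_ne_one ?_ h1 h2 (by rw [h3]; norm_num)
  · rw [Nat.card_congr Multiplicative.toAdd, Nat.card_zmod]
  · intro g
    constructor
    · exact eq_of_sig
    · rintro (rfl | rfl)
      · exact map_one _
      · exact sig_neg

end Cfsg.Agent.H382.RIM.MTwelve
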